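import Groth.Agent.Comod.DualModule
import Groth.Agent.Comod.FlatSub
import Mathlib.RingTheory.HopfAlgebra.Basic
import Mathlib.RingTheory.Flat.FaithfullyFlat.Basic

/-!
# Coinvariants of a sub-Hopf algebra and fixed vectors from filtrations
-/

set_option autoImplicit false
set_option backward.isDefEq.respectTransparency false

universe u v w
open TensorProduct Coalgebra
noncomputable section

namespace Groth.Agent.UnipFilt

open Groth.Agent.Comod

variable {k : Type u} [Field k] {A : Type v} [CommRing A] [HopfAlgebra k A]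

/-- Faithfully flat descent for an element. -/
theorem mem_of_one_tmul_eq (B : Subalgebra k A) [Module.FaithfullyFlat B A] {a : A}
    (h : (1 : A) ⊗ₜ[B] a = a ⊗ₜ[B] (1 : A)) : a ∈ B := by
  let N : Submodule B A := LinearMap.range (Algebra.linearMap B A)
  have h1 : (1 : A) ⊗ₜ[B] N.mkQ a = 0 := by
    rw [← LinearMap.lTensor_tmul, h, LinearMap.lTensor_tmul,
      show N.mkQ (1 : A) = 0 from (Submodule.Quotient.mk_eq_zero N).2 ⟨1, rfl⟩, TensorProduct.tmul_zero]
  have h2 : N.mkQ a = 0 :=
    Module.FaithfullyFlat.tensorProduct_mk_injective (A := B) (B := A) (A ⧸ N)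
      (by simpa using h1)
  obtain ⟨b, hb⟩ := (Submodule.Quotient.mk_eq_zero N).1 h2
  exact hb ▸ b.2

/-- Coinvariants of a Hopf quotient by the augmentation ideal of a sub-Hopf algebra lie in it. -/
theorem coinv_mem {B : Subalgebra k A} (hB : Groth.Agent.FlatSub.IsSubHopf k B) (J : Ideal A)
    (hJ : J ≤ Ideal.span {b : A | b ∈ B ∧ counit (R := k) b = 0}) {a : A}
    (ha : comul (R := k) a - a ⊗ₜ[k] (1 : A) ∈
      LinearMap.range ((J.restrictScalars k).subtype.lTensor A)) : a ∈ B := by
  haveI := Groth.Agent.FlatSub.faithfullyFlat hB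
  refine mem_of_one_tmul_eq B ?_
  let i₁ : A →ₐ[k] A ⊗[B] A := Algebra.TensorProduct.includeLeft
  let i₂ : A →ₐ[k] A ⊗[B] A := (Algebra.TensorProduct.includeRight : A →ₐ[B] A ⊗[B] A).restrictScalars k
  let θ : A →ₐ[k] A ⊗[B] A :=
    (Algebra.TensorProduct.lift (i₁.comp (HopfAlgebra.antipodeAlgHom k A)) i₂ fun _ _ => Commute.all _ _).comp
      (Bialgebra.comulAlgHom k A)
  let Ψ : A ⊗[k] A →ₐ[k] A ⊗[B] A := Algebra.TensorProduct.lift i₁ θ fun _ _ => Commute.all _ _
  have hθB : ∀ b : A, b ∈ B → θ b = algebraMap k (A ⊗[B] A) (counit (R := k) b) := by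
    intro b hb
    obtain ⟨z, hz⟩ := hB.1 b hb
    have h2 : ∀ z : B ⊗[k] B,
        Algebra.TensorProduct.lift (i₁.comp (HopfAlgebra.antipodeAlgHom k A)) i₂ (fun _ _ => Commute.all _ _)
            (TensorProduct.map B.val.toLinearMap B.val.toLinearMap z) =
          i₁ (LinearMap.mul' k A ((HopfAlgebra.antipode k).rTensor A
            (TensorProduct.map B.val.toLinearMap B.val.toLinearMap z))) := by
      intro z
      induction z using TensorProduct.induction_on with
      | zero => simp
      | tmul x y =>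
        have e : i₂ (y : A) = i₁ (y : A) := by
          show (1 : A) ⊗ₜ[B] (y : A) = (y : A) ⊗ₜ[B] (1 : A)
          rw [show (y : A) = y • (1 : A) by simp [Algebra.smul_def], ← TensorProduct.smul_tmul]
        simp [e, map_mul]
      | add x y hx hy => simp only [map_add, hx, hy]
    show Algebra.TensorProduct.lift (i₁.comp (HopfAlgebra.antipodeAlgHom k A)) i₂ (fun _ _ => Commute.all _ _)
      (comul (R := k) b) = _
    rw [← hz, h2, hz, HopfAlgebra.mul_antipode_rTensor_comul_apply, AlgHom.commutes]
  have hker : ∀ b ∈ J, θ b = 0 := by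
    intro b hb
    refine RingHom.mem_ker.1 ((Ideal.span_le.2 ?_ : _ ≤ RingHom.ker θ.toRingHom) (hJ hb))
    rintro b ⟨hb, h0⟩
    show θ b = 0
    rw [hθB b hb, h0, map_zero]
  have hΨ : Ψ (comul (R := k) a) = Ψ (a ⊗ₜ 1) := by
    rw [← sub_eq_zero, ← map_sub]
    obtain ⟨z, hz⟩ := ha
    rw [← hz]
    clear hz
    induction z using TensorProduct.induction_on with
    | zero => simp
    | tmul x y =>
      show Ψ (x ⊗ₜ[k] (y : A)) = 0
      rw [show Ψ (x ⊗ₜ[k] (y : A)) = i₁ x * θ y from Algebra.TensorProduct.lift_tmul .., hker _ y.2, mul_zero]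
    | add x y hx hy => simp only [map_add, hx, hy, add_zero]
  have hl : Ψ (comul (R := k) a) = i₂ a := by
    let g : A ⊗[k] A →ₐ[k] A := Algebra.TensorProduct.lift (AlgHom.id k A) (HopfAlgebra.antipodeAlgHom k A)
      fun _ _ => Commute.all _ _
    let Q : A ⊗[k] (A ⊗[k] A) →ₐ[k] A ⊗[B] A := Algebra.TensorProduct.lift i₁
      (Algebra.TensorProduct.lift (i₁.comp (HopfAlgebra.antipodeAlgHom k A)) i₂ fun _ _ => Commute.all _ _)
      fun _ _ => Commute.all _ _
    have e1 : ∀ z : A ⊗[k] A, Ψ z = Q ((comul (R := k) (A := A)).lTensor A z) := by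
      intro z
      induction z using TensorProduct.induction_on with
      | zero => simp
      | tmul x y => simp [Ψ, θ, Q]
      | add x y hx hy => simp only [map_add, hx, hy]
    have e2 : ∀ z : (A ⊗[k] A) ⊗[k] A, Q (TensorProduct.assoc k A A A z) =
        Algebra.TensorProduct.lift (i₁.comp g) i₂ (fun _ _ => Commute.all _ _) z := by
      intro z
      induction z using TensorProduct.induction_on with
      | zero => simp
      | tmul x y =>
        induction x using TensorProduct.induction_on with
        | zero => simp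
        | tmul p q => simp [Q, g, map_mul, mul_assoc]
        | add p q hp hq => simp only [TensorProduct.add_tmul, map_add, hp, hq]
      | add x y hx hy => simp only [map_add, hx, hy]
    have hg : ∀ z : A ⊗[k] A, g z = LinearMap.mul' k A ((HopfAlgebra.antipode k).lTensor A z) := by
      intro z
      induction z using TensorProduct.induction_on with
      | zero => simp
      | tmul x y => simp [g]
      | add x y hx hy => simp only [map_add, hx, hy]
    have e3 : ∀ z : A ⊗[k] A,
        Algebra.TensorProduct.lift (i₁.comp g) i₂ (fun _ _ => Commute.all _ _)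
            ((comul (R := k) (A := A)).rTensor A z) =
          i₂ (TensorProduct.lid k A ((counit (R := k) (A := A)).rTensor A z)) := by
      intro z
      induction z using TensorProduct.induction_on with
      | zero => simp
      | tmul x y =>
        rw [LinearMap.rTensor_tmul, Algebra.TensorProduct.lift_tmul, AlgHom.comp_apply, hg,
          HopfAlgebra.mul_antipode_lTensor_comul_apply, AlgHom.commutes, LinearMap.rTensor_tmul,
          TensorProduct.lid_tmul, map_smul, ← Algebra.smul_def]
      | add x y hx hy => simp only [map_add, hx, hy]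
    rw [e1, ← Coalgebra.coassoc_apply, e2, e3, Coalgebra.rTensor_counit_comul]
    simp
  rw [hl] at hΨ
  refine hΨ.trans ?_
  rw [show Ψ (a ⊗ₜ[k] (1 : A)) = i₁ a * θ 1 from Algebra.TensorProduct.lift_tmul .., map_one, mul_one]
  rfl

/-- A comodule with a nonzero vector whose coefficients lie in a filtration starting with `k · 1`
has a nonzero fixed vector. -/
theorem exists_fixed {B : Type v} [CommRing B] [Bialgebra k B] (C : ℕ → Submodule k B)
    (h0 : C 0 ≤ Submodule.span k {(1 : B)})
    (hΔ : ∀ n (f : B →ₗ[k] k), (∀ c ∈ C n, f c = 0) → ∀ c ∈ C (n + 1),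
      cR f (comul (R := k) c) ∈ C 0)
    {V : Type w} [AddCommGroup V] [Module k V] [HopfRep.Comod k B V] :
    ∀ n (v : V), v ≠ 0 → (∀ φ, cL φ (HopfRep.Comod.coact (k := k) (A := B) v) ∈ C n) →
      HopfRep.fixedPts k B V ≠ ⊥ := by
  intro n
  induction n with
  | zero =>
    intro v hv h
    refine (Submodule.ne_bot_iff _).2 ⟨v, tensor_eq_of_cL fun φ => ?_, hv⟩
    obtain ⟨c, hc⟩ := Submodule.mem_span_singleton.1 (h0 (h φ))
    have h1 := congr(TensorProduct.rid k V ($(HopfRep.Comod.counit_comp (k := k) (A := B) (V := V)) v))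
    have h2 : counit (R := k) (cL φ (HopfRep.Comod.coact (k := k) (A := B) v)) = φ v := by
      rw [cR_cL]; congr 1; simpa [cR] using h1
    rw [← hc] at h2 ⊢
    rw [map_smul, Bialgebra.counit_one, smul_eq_mul, mul_one] at h2
    rw [cL_tmul, h2]
  | succ n ih =>
    intro v hv h
    by_cases hn : ∀ φ, cL φ (HopfRep.Comod.coact (k := k) (A := B) v) ∈ C n
    · exact ih v hv hn
    push Not at hn
    obtain ⟨φ₀, hφ₀⟩ := hn
    obtain ⟨f, hf1, hf2⟩ := Submodule.exists_dual_map_eq_bot_of_notMem hφ₀ inferInstance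
    have hf : ∀ c ∈ C n, f c = 0 := fun c hc => (Submodule.mem_bot k).1 (hf2 ▸ Submodule.mem_map_of_mem hc)
    let u := dact k B V (WithConv.toConv f) v
    have hu : u ≠ 0 := fun hz => hf1 (by
      rw [show f (cL φ₀ _) = φ₀ u from apply_cL_coact (WithConv.toConv f) φ₀ v, hz, map_zero])
    have h0' : ∀ φ, cL φ (HopfRep.Comod.coact (k := k) (A := B) u) ∈ C 0 := fun φ => by
      rw [show cL φ (HopfRep.Comod.coact (k := k) (A := B) u) =
        cR f (comul (R := k) (cL φ (HopfRep.Comod.coact (k := k) (A := B) v))) from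
          (coeff_smul (WithConv.toConv f) φ v).symm]
      exact hΔ n f hf _ (h φ)
    refine (Submodule.ne_bot_iff _).2 ⟨u, tensor_eq_of_cL fun φ => ?_, hu⟩
    obtain ⟨c, hc⟩ := Submodule.mem_span_singleton.1 (h0 (h0' φ))
    have h1 := congr(TensorProduct.rid k V ($(HopfRep.Comod.counit_comp (k := k) (A := B) (V := V)) u))
    have h2 : counit (R := k) (cL φ (HopfRep.Comod.coact (k := k) (A := B) u)) = φ u := by
      rw [cR_cL]; congr 1; simpa [cR] using h1
    rw [← hc] at h2 ⊢
    rw [map_smul, Bialgebra.counit_one, smul_eq_mul, mul_one] at h2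
    rw [cL_tmul, h2]

end Groth.Agent.UnipFilt
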