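import Groth.Agent.UnipFilt.Basic
import Groth.Agent.HopfRange.Basic
import Groth.Prelude.Def_HopfRep
import Mathlib.RingTheory.HopfAlgebra.Quotient
import Mathlib.RingTheory.FiniteType

/-!
# Unipotence from primitive elements in all quotients
-/

set_option autoImplicit false
set_option backward.isDefEq.respectTransparency false

universe u v w
open TensorProduct Coalgebra
noncomputable section

namespace Groth.Agent.UnipFilt

open Groth.Agent.Comod

variable {k : Type u} [Field k]

section prim

variable {H : Type v} [CommRing H] [HopfAlgebra k H] {x : H}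
  (hx : comul (R := k) x = x ⊗ₜ[k] (1 : H) + (1 : H) ⊗ₜ[k] x)

include hx in
lemma counit_prim : counit (R := k) x = 0 := by
  have h := Coalgebra.rTensor_counit_comul (R := k) x
  rw [hx, map_add, LinearMap.rTensor_tmul, LinearMap.rTensor_tmul, Bialgebra.counit_one, add_eq_right] at h
  have := congrArg (fun z => counit (R := k) (TensorProduct.lid k H z)) h
  simpa using this

/-- Polynomials of degree at most `n` in `x`. -/
def degLE (x : H) (n : ℕ) : Submodule k H := Submodule.span k {y | ∃ i ≤ n, x ^ i = y}

include hx in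
lemma comul_pow (n : ℕ) : comul (R := k) (x ^ n) =
    ∑ i ∈ Finset.range (n + 1), (n.choose i) • ((x ^ i) ⊗ₜ[k] (x ^ (n - i))) := by
  rw [show comul (R := k) (x ^ n) = (comul (R := k) x) ^ n from map_pow (Bialgebra.comulAlgHom k H) x n,
    hx, add_pow]
  refine Finset.sum_congr rfl fun i _ => ?_
  rw [Algebra.TensorProduct.tmul_pow, Algebra.TensorProduct.tmul_pow, one_pow, one_pow,
    Algebra.TensorProduct.tmul_mul_tmul, mul_one, one_mul, nsmul_eq_mul, mul_comm]

include hx in
lemma cR_mem_degLE_zero (n : ℕ) (f : H →ₗ[k] k) (hf : ∀ c ∈ degLE (k := k) x n, f c = 0)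
    (c : H) (hc : c ∈ degLE (k := k) x (n + 1)) : cR f (comul (R := k) c) ∈ degLE (k := k) x 0 := by
  induction hc using Submodule.span_induction with
  | mem y hy =>
    obtain ⟨i, hi, rfl⟩ := hy
    rw [comul_pow hx, map_sum]
    refine sum_mem fun j hj => ?_
    rw [map_nsmul, cR_tmul]
    refine nsmul_mem ?_ _
    rcases Nat.eq_zero_or_pos j with rfl | hj0
    · exact Submodule.smul_mem _ _ (Submodule.subset_span ⟨0, le_rfl, rfl⟩)
    · rw [hf _ (Submodule.subset_span ⟨i - j, by omega, rfl⟩), zero_smul]
      exact zero_mem _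
  | zero => simp
  | add p q _ _ hp hq => rw [map_add, map_add]; exact add_mem hp hq
  | smul a p _ hp => rw [map_smul, map_smul]; exact Submodule.smul_mem _ _ hp

include hx in
lemma isSubHopf_adjoin : Groth.Agent.FlatSub.IsSubHopf k (Algebra.adjoin k {x}) := by
  let B := Algebra.adjoin k {x}
  let m : B ⊗[k] B →ₐ[k] H ⊗[k] H := Algebra.TensorProduct.map B.val B.val
  have hxB : x ∈ B := Algebra.self_mem_adjoin_singleton k x
  refine ⟨fun b hb => ?_, fun b hb => ?_⟩
  · obtain ⟨t, ht⟩ := (Algebra.adjoin_le (S := m.range.comap (Bialgebra.comulAlgHom k H))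
      (Set.singleton_subset_iff.2 (by
        show comul (R := k) x ∈ m.range
        rw [hx]
        exact add_mem ⟨(⟨x, hxB⟩ : B) ⊗ₜ 1, by simp [m]⟩ ⟨1 ⊗ₜ (⟨x, hxB⟩ : B), by simp [m]⟩))) hb
    exact ⟨t, ht⟩
  · refine (Algebra.adjoin_le (S := B.comap (HopfAlgebra.antipodeAlgHom k H))
      (Set.singleton_subset_iff.2 ?_)) hb
    show HopfAlgebra.antipode k x ∈ B
    have h := HopfAlgebra.mul_antipode_rTensor_comul_apply (R := k) x
    rw [hx, map_add, LinearMap.rTensor_tmul, LinearMap.rTensor_tmul, map_add, LinearMap.mul'_apply,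
      LinearMap.mul'_apply, HopfAlgebra.antipode_one, mul_one, one_mul, counit_prim hx, map_zero,
      add_eq_zero_iff_eq_neg] at h
    rw [h]
    exact neg_mem hxB

lemma le_degLE_of_mem_adjoin {a : H} (ha : a ∈ Algebra.adjoin k {x}) : ∃ n, a ∈ degLE (k := k) x n := by
  rw [Algebra.adjoin_singleton_eq_range_aeval] at ha
  obtain ⟨p, rfl⟩ := ha
  refine ⟨p.natDegree, ?_⟩
  show (Polynomial.aeval x) p ∈ _
  rw [Polynomial.aeval_eq_sum_range]
  exact sum_mem fun i hi => Submodule.smul_mem _ _
    (Submodule.subset_span ⟨i, by simpa [Finset.mem_range, Nat.lt_succ_iff] using hi, rfl⟩)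

include hx in
/-- If the fixed vectors under a primitive hyperplane's kernel are nonzero, so are the fixed vectors. -/
theorem fixed_of_kernel {C : Type v} [CommRing C] [HopfAlgebra k C] (π : H →ₐc[k] C)
    (hπ : ∀ y : H, π y = 0 → y ∈ Ideal.span {x})
    {V : Type w} [AddCommGroup V] [Module k V] [HopfRep.Comod k H V] (v : V) (hv : v ≠ 0)
    (hfix : (π : H →ₐ[k] C).toLinearMap.lTensor V (HopfRep.Comod.coact (k := k) (A := H) v) = v ⊗ₜ 1) :
    HopfRep.fixedPts k H V ≠ ⊥ := by
  classical
  have hB := isSubHopf_adjoin hx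
  let ρv := HopfRep.Comod.coact (k := k) (A := H) v
  have hmem : ∀ φ, cL φ ρv ∈ Algebra.adjoin k {x} := by
    intro φ
    refine coinv_mem hB (Ideal.span {x}) (Ideal.span_mono (Set.singleton_subset_iff.2
      ⟨Algebra.self_mem_adjoin_singleton k x, counit_prim hx⟩)) ?_
    rw [mem_range_lTensor_iff]
    intro ψ
    rw [map_sub, cL_tmul, cL_comul, Submodule.restrictScalars_mem]
    refine hπ _ ?_
    have e : ∀ χ : V →ₗ[k] k, π (cL χ ρv) = χ v • (1 : C) := by
      intro χ
      rw [show π (cL χ ρv) = (π : H →ₐ[k] C).toLinearMap (cL χ ρv) from rfl, ← cL_lTensor, hfix, cL_tmul]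
    rw [map_sub, e, show π (ψ (cL φ ρv) • (1 : H)) = ψ (cL φ ρv) • (1 : C) by
      rw [map_smul, map_one]]
    rw [show ψ (cL φ ρv) = φ (dact k H V (WithConv.toConv ψ) v) from
      apply_cL_coact (WithConv.toConv ψ) φ v, LinearMap.comp_apply, sub_self]
  have hall : ∃ n, ∀ φ, cL φ ρv ∈ degLE (k := k) x n := by
    let b := Module.Free.chooseBasis k V
    let c : _ →₀ H := TensorProduct.equivFinsuppOfBasisLeft b ρv
    have hc : ∀ i, c i = cL (b.coord i) ρv := by
      intro i
      show TensorProduct.equivFinsuppOfBasisLeft b ρv i = _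
      generalize ρv = t
      induction t using TensorProduct.induction_on with
      | zero => simp
      | tmul y z => simp [TensorProduct.equivFinsuppOfBasisLeft_apply_tmul_apply]
      | add y z hy hz => simp [hy, hz]
    choose n hn using fun i => le_degLE_of_mem_adjoin (hc i ▸ hmem (b.coord i))
    refine ⟨c.support.sup n, fun φ => ?_⟩
    have e : ρv = c.sum fun i h => b i ⊗ₜ[k] h := by
      conv_lhs => rw [← (TensorProduct.equivFinsuppOfBasisLeft b).symm_apply_apply ρv]
      exact TensorProduct.equivFinsuppOfBasisLeft_symm_apply _ _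
    rw [e, Finsupp.sum, map_sum]
    refine sum_mem fun i hi => ?_
    rw [cL_tmul]
    exact Submodule.smul_mem _ _ (Submodule.span_mono (s := {y | ∃ j ≤ n i, x ^ j = y}) (t := {y | ∃ j ≤ c.support.sup n, x ^ j = y}) (fun y ⟨j, hj, hy⟩ =>
      ⟨j, hj.trans (Finset.le_sup hi), hy⟩) (hn i))
  obtain ⟨n, hn⟩ := hall
  refine exists_fixed (degLE (k := k) x) ?_ (cR_mem_degLE_zero hx) n v hv hn
  refine Submodule.span_mono ?_
  rintro y ⟨i, hi, rfl⟩
  simp [Nat.le_zero.1 hi]

end prim

/-- A finitely generated Hopf algebra all of whose nontrivial quotients have a nonzero primitive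
element is unipotent. -/
theorem isUnipotent_of_prim {A : Type v} [CommRing A] [HopfAlgebra k A] [Algebra.FiniteType k A]
    (h : ∀ (I : Ideal A) [I.IsHopfIdeal k], I ≠ RingHom.ker (Bialgebra.counitAlgHom k A) →
      ∃ x : A ⧸ I, x ≠ 0 ∧ CoalgebraStruct.comul (R := k) x = x ⊗ₜ[k] (1 : A ⧸ I) + (1 : A ⧸ I) ⊗ₜ[k] x) :
    HopfRep.IsUnipotent k A := by
  haveI : IsNoetherianRing A := Algebra.FiniteType.isNoetherianRing k A
  suffices H : ∀ I : Ideal A, ∀ (B : Type v) [CommRing B] [HopfAlgebra k B] (f : A →ₐc[k] B),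
      Function.Surjective f → RingHom.ker (f : A →ₐ[k] B) = I →
      ∀ (V : Type v) [AddCommGroup V] [Module k V] [HopfRep.Comod k B V], Nontrivial V →
        HopfRep.fixedPts k B V ≠ ⊥ by
    intro V _ _ _ _ hnt
    exact H _ A (BialgHom.id k A) Function.surjective_id rfl V hnt
  intro I
  induction I using IsWellFounded.induction (α := Ideal A) (· > ·) with
  | ind I ih => ?_
  intro B _ _ f hf hI V _ _ _ hnt
  let Iz : Ideal A := RingHom.ker (f : A →ₐ[k] B)
  haveI hIz : Iz.IsHopfIdeal k :=
    { toIsCoideal := ⟨fun a ha => by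
          rw [← CoalgHomClass.counit_comp_apply f a, show f a = 0 from ha, map_zero],
        fun a ha => by
          let q : A ⧸ Iz.restrictScalars k →ₗ[k] B :=
            (Iz.restrictScalars k).liftQ (f : A →ₐ[k] B).toLinearMap fun y hy => hy
          have hq : Function.Injective q := by
            rw [← LinearMap.ker_eq_bot, Submodule.ker_liftQ, eq_bot_iff, Submodule.map_le_iff_le_comap,
              Submodule.comap_bot, Submodule.ker_mkQ]
            exact fun y hy => hy
          refine TensorProduct.map_injective_of_flat_flat q q hq hq ?_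
          rw [map_zero, ← LinearMap.comp_apply, ← TensorProduct.map_comp,
            show q ∘ₗ (Iz.restrictScalars k).mkQ = (f : A →ₐ[k] B).toLinearMap from LinearMap.ext fun _ => rfl]
          rw [show TensorProduct.map (f : A →ₐ[k] B).toLinearMap (f : A →ₐ[k] B).toLinearMap (comul (R := k) a) =
            comul (R := k) (f a) from CoalgHomClass.map_comp_comul_apply f a, show f a = 0 from ha, map_zero]⟩,
      antipode_mem := fun a ha => by
        show f (HopfAlgebra.antipode k a) = 0
        rw [← Groth.Agent.HopfRange.antipode_map, show f a = 0 from ha, map_zero] }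
  by_cases haug : Iz = RingHom.ker (Bialgebra.counitAlgHom k A)
  · obtain ⟨v, hv⟩ := exists_ne (0 : V)
    have hB : ∀ b : B, b = counit (R := k) b • (1 : B) := by
      intro b
      obtain ⟨a, rfl⟩ := hf b
      have : a - counit (R := k) a • (1 : A) ∈ Iz := haug ▸ (by simp : _ ∈ RingHom.ker (Bialgebra.counitAlgHom k A))
      have e : f (a - counit (R := k) a • (1 : A)) = 0 := this
      rw [map_sub, map_smul, map_one, sub_eq_zero] at e
      rw [CoalgHomClass.counit_comp_apply f a]
      exact e
    refine exists_fixed (fun _ => Submodule.span k {(1 : B)}) le_rfl (fun n g _ c _ => ?_) 0 v hv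
      fun φ => ?_
    all_goals exact Submodule.mem_span_singleton.2 ⟨_, (hB _).symm⟩
  obtain ⟨x, hx0, hx⟩ := @h Iz hIz haug
  let e : A ⧸ Iz →ₐ[k] B := Ideal.Quotient.liftₐ Iz (f : A →ₐ[k] B) fun a ha => ha
  have hinj : Function.Injective e := RingHom.lift_injective_of_ker_le_ideal _ _ le_rfl
  let y := e x
  have hy : comul (R := k) y = y ⊗ₜ[k] (1 : B) + (1 : B) ⊗ₜ[k] y := by
    obtain ⟨a, ha⟩ := Ideal.Quotient.mk_surjective x
    have h1 := congrArg (TensorProduct.map e.toLinearMap e.toLinearMap) hx
    rw [← ha, Bialgebra.Quotient.comul_mk, ← LinearMap.comp_apply, ← TensorProduct.map_comp] at h1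
    rw [show e.toLinearMap ∘ₗ (Ideal.Quotient.mkₐ k Iz).toLinearMap = (f : A →ₐ[k] B).toLinearMap from
      LinearMap.ext fun _ => rfl] at h1
    rw [show y = f a by simp [y, ← ha, e], ← CoalgHomClass.map_comp_comul_apply f a]
    refine h1.trans ?_
    simp [e]
  let J : Ideal B := Ideal.span {y}
  haveI hJ : J.IsHopfIdeal k := by
    refine { toIsCoideal := ⟨fun b hb => ?_, fun b hb => ?_⟩, antipode_mem := fun b hb => ?_ }
    · obtain ⟨c, rfl⟩ := Ideal.mem_span_singleton'.1 hb
      rw [Bialgebra.counit_mul, counit_prim hy, mul_zero]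
    · obtain ⟨c, rfl⟩ := Ideal.mem_span_singleton'.1 hb
      let m : B ⊗[k] B →ₐ[k] (B ⧸ J) ⊗[k] (B ⧸ J) :=
        Algebra.TensorProduct.map (Ideal.Quotient.mkₐ k J) (Ideal.Quotient.mkₐ k J)
      show m (comul (R := k) (c * y)) = 0
      rw [Bialgebra.comul_mul, map_mul, hy]
      simp [m, show Ideal.Quotient.mk J y = 0 from
        Ideal.Quotient.eq_zero_iff_mem.2 (Ideal.mem_span_singleton_self y)]
    · obtain ⟨c, rfl⟩ := Ideal.mem_span_singleton'.1 hb
      have hS : HopfAlgebra.antipode k y = -y := by
        have h := HopfAlgebra.mul_antipode_rTensor_comul_apply (R := k) y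
        rw [hy, map_add, LinearMap.rTensor_tmul, LinearMap.rTensor_tmul, map_add, LinearMap.mul'_apply,
          LinearMap.mul'_apply, HopfAlgebra.antipode_one, mul_one, one_mul, counit_prim hy, map_zero,
          add_eq_zero_iff_eq_neg] at h
        exact h
      show HopfAlgebra.antipodeAlgHom k B (c * y) ∈ J
      rw [map_mul, show HopfAlgebra.antipodeAlgHom k B y = -y from hS, mul_neg]
      exact neg_mem (J.mul_mem_left _ (Ideal.mem_span_singleton_self y))
  let π : B →ₐc[k] B ⧸ J := Bialgebra.Quotient.mkBialgHom J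
  let g : A →ₐc[k] B ⧸ J := π.comp f
  have hgt : RingHom.ker (g : A →ₐ[k] B ⧸ J) > I := by
    refine lt_of_le_of_ne (fun a ha => ?_) fun he => ?_
    · rw [← hI] at ha
      show π (f a) = 0
      rw [show f a = 0 from ha, map_zero]
    · obtain ⟨a, ha⟩ := hf y
      have h1 : a ∈ I := by
        rw [he]
        show π (f a) = 0
        rw [ha]
        exact Ideal.Quotient.eq_zero_iff_mem.2 (Ideal.mem_span_singleton_self y)
      rw [← hI] at h1
      exact hx0 (hinj (by rw [map_zero]; exact ha.symm.trans h1))
  letI cC : HopfRep.Comod k (B ⧸ J) V :=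
    { coact := (π : B →ₐ[k] B ⧸ J).toLinearMap.lTensor V ∘ₗ HopfRep.Comod.coact (k := k) (A := B)
      coassoc := LinearMap.ext fun v => by
        have h0 := LinearMap.congr_fun (HopfRep.Comod.coassoc (k := k) (A := B) (V := V)) v
        simp only [LinearMap.comp_apply, LinearEquiv.coe_coe] at h0
        let P := (π : B →ₐ[k] B ⧸ J).toLinearMap
        have e1 : ∀ t : V ⊗[k] B, (comul (R := k) (A := B ⧸ J)).lTensor V (P.lTensor V t) =
            (TensorProduct.map P P).lTensor V ((comul (R := k) (A := B)).lTensor V t) := by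
          intro t
          induction t using TensorProduct.induction_on with
          | zero => simp
          | tmul a b =>
            simp only [LinearMap.lTensor_tmul]
            exact congrArg (a ⊗ₜ[k] ·) (CoalgHomClass.map_comp_comul_apply π b).symm
          | add a b ha hb => simp only [map_add, ha, hb]
        have e2 : ∀ t : V ⊗[k] B,
            TensorProduct.assoc k V (B ⧸ J) (B ⧸ J)
              ((P.lTensor V ∘ₗ HopfRep.Comod.coact (k := k) (A := B)).rTensor (B ⧸ J) (P.lTensor V t)) =
            (TensorProduct.map P P).lTensor V (TensorProduct.assoc k V B B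
              ((HopfRep.Comod.coact (k := k) (A := B)).rTensor B t)) := by
          intro t
          induction t using TensorProduct.induction_on with
          | zero => simp
          | tmul a b =>
            simp only [LinearMap.lTensor_tmul, LinearMap.rTensor_tmul, LinearMap.comp_apply]
            generalize HopfRep.Comod.coact (k := k) (A := B) a = s
            induction s using TensorProduct.induction_on with
            | zero => simp
            | tmul c d => simp
            | add c d hc hd => simp only [map_add, TensorProduct.add_tmul, hc, hd]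
          | add a b ha hb => simp only [map_add, ha, hb]
        simp only [LinearMap.comp_apply, LinearEquiv.coe_coe]
        rw [e2, h0, e1]
      counit_comp := LinearMap.ext fun v => by
        have h0 := LinearMap.congr_fun (HopfRep.Comod.counit_comp (k := k) (A := B) (V := V)) v
        simp only [LinearMap.comp_apply] at h0 ⊢
        rw [← LinearMap.comp_apply, ← LinearMap.lTensor_comp, ← h0]
        congr 1 }
  obtain ⟨v, hv, hvne⟩ := Submodule.exists_mem_ne_zero_of_ne_bot
    (ih _ hgt (B ⧸ J) g (Ideal.Quotient.mk_surjective.comp hf) rfl V hnt)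
  exact fixed_of_kernel hy π (fun b hb => Ideal.Quotient.eq_zero_iff_mem.1 hb) v hvne hv

end Groth.Agent.UnipFilt
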