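import Groth.Agent.Comod.DualModule
import Groth.Agent.HopfCartier.Basic
import Groth.Agent.HopfPoint.Basic
import Groth.Prelude.Def_ComodSub
import Groth.Agent.S5423

/-!
# Subspaces stable under the Lie algebra of a unipotent group in characteristic zero
-/

set_option autoImplicit false
set_option backward.isDefEq.respectTransparency false

universe u v
open TensorProduct Coalgebra
noncomputable section

namespace Groth.Agent.UnipFilt

open Groth.Agent.Comod Groth.Agent.HopfCartier

section Euler

variable {k : Type u} [Field k] {A : Type v} [CommRing A] [HopfAlgebra k A] [Algebra.FiniteType k A]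

/-- A functional is an `ε`-derivation. -/
def IsEpsDer (d : A →ₗ[k] k) : Prop :=
  ∀ a b, d (a * b) = counit (R := k) a * d b + counit (R := k) b * d a

theorem IsEpsDer.one {d : A →ₗ[k] k} (hd : IsEpsDer d) : d 1 = 0 := by
  have h := hd 1 1
  rw [mul_one, Bialgebra.counit_one, one_mul, left_eq_add] at h
  exact h

local notation "aug" => RingHom.ker (Bialgebra.counitAlgHom k A)

/-- Coordinates at the unit. -/
theorem exists_coords : ∃ (r : ℕ) (d : Fin r → A →ₗ[k] k) (x : Fin r → A), (∀ j, IsEpsDer (d j)) ∧
    (∀ j, x j ∈ aug) ∧ ∀ b ∈ aug, b - ∑ j, d j b • x j ∈ aug ^ 2 := by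
  classical
  haveI : IsNoetherianRing A := Algebra.FiniteType.isNoetherianRing k A
  let q := (Ideal.Quotient.mkₐ k (aug ^ 2)).toLinearMap
  let M : Submodule k (A ⧸ aug ^ 2) := (aug).restrictScalars k |>.map q
  have hmem : ∀ a, a - algebraMap k A (counit (R := k) a) ∈ aug := fun a => by simp [RingHom.mem_ker]
  haveI : Module.Finite k M := by
    obtain ⟨G, hG⟩ := IsNoetherian.noetherian (R := A) (aug)
    refine ⟨(Submodule.fg_top M).2 ⟨G.image q, le_antisymm ?_ ?_⟩⟩
    · rw [Submodule.span_le, Finset.coe_image]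
      rintro _ ⟨g, hg, rfl⟩
      have hg' : g ∈ aug := hG ▸ Submodule.subset_span hg
      exact ⟨g, hg', rfl⟩
    · rintro _ ⟨b, hb, rfl⟩
      change b ∈ aug at hb
      rw [Finset.coe_image]
      rw [← hG] at hb
      induction hb using Submodule.span_induction with
      | mem y hy => exact Submodule.subset_span ⟨y, hy, rfl⟩
      | zero => rw [map_zero]; exact zero_mem _
      | add a c _ _ ha hc => rw [map_add]; exact add_mem ha hc
      | smul a y hy ih =>
        have hy' : y ∈ aug := hG ▸ hy
        have e : q (a • y) = counit (R := k) a • q y := by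
          rw [← map_smul, ← sub_eq_zero, ← map_sub]
          refine Ideal.Quotient.eq_zero_iff_mem.2 ?_
          rw [smul_eq_mul, Algebra.smul_def, ← sub_mul, pow_two]
          exact Ideal.mul_mem_mul (hmem a) hy'
        rw [e]
        exact Submodule.smul_mem _ _ ih
  let B := Module.finBasis k M
  let π : A →ₗ[k] M := ((q ∘ₗ (LinearMap.id - Algebra.linearMap k A ∘ₗ counit)).codRestrict M
    fun a => ⟨_, hmem a, rfl⟩)
  choose x hx hqx using fun j => (B j).2
  refine ⟨_, fun j => B.coord j ∘ₗ π, x, fun j a b => ?_, hx, fun b hb => ?_⟩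
  · have e : π (a * b) = counit (R := k) a • π b + counit (R := k) b • π a := by
      apply Subtype.ext
      show q (a * b - algebraMap k A (counit (R := k) (a * b))) =
        counit (R := k) a • q (b - algebraMap k A (counit (R := k) b)) +
          counit (R := k) b • q (a - algebraMap k A (counit (R := k) a))
      rw [← map_smul, ← map_smul, ← map_add, ← sub_eq_zero, ← map_sub]
      refine Ideal.Quotient.eq_zero_iff_mem.2 ?_
      convert Ideal.mul_mem_mul (hmem a) (hmem b) using 1
      · rw [pow_two]
      · rw [Bialgebra.counit_mul, map_mul, Algebra.smul_def, Algebra.smul_def]; ring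
    simp only [LinearMap.comp_apply, e, map_add, map_smul, smul_eq_mul]
  · refine Ideal.Quotient.eq_zero_iff_mem.1 ?_
    show q (b - ∑ j, (B.coord j ∘ₗ π) b • x j) = 0
    rw [map_sub, sub_eq_zero, map_sum]
    have e : (π b : A ⧸ aug ^ 2) = q b := by
      show q (b - algebraMap k A (counit (R := k) b)) = q b
      rw [show counit (R := k) b = 0 from hb, map_zero, sub_zero]
    rw [← e]
    conv_lhs => rw [← B.sum_repr (π b), Submodule.coe_sum]
    simp only [Submodule.coe_smul, map_smul, hqx, LinearMap.comp_apply, Module.Basis.coord_apply]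

variable [CharZero k]

/-- A set of functions vanishing at the unit and stable under invariant derivations is flat at the unit. -/
theorem mem_pow_of_stable (S : Set A) (h0 : ∀ a ∈ S, counit (R := k) a = 0)
    (hS : ∀ d : A →ₗ[k] k, IsEpsDer d → ∀ a ∈ S, invOp d a ∈ S) :
    ∀ (n : ℕ), ∀ a ∈ S, a ∈ aug ^ n := by
  obtain ⟨r, d, x, hd, hx, hcoord⟩ := exists_coords (k := k) (A := A)
  have euler : ∀ n : ℕ, ∀ b ∈ aug ^ (n + 1),
      ∑ j, x j * invOp (d j) b - (n + 1 : ℕ) • b ∈ aug ^ (n + 2) := by
    intro n
    induction n with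
    | zero =>
      intro b hb
      rw [zero_add, pow_one] at hb
      rw [show ((0:ℕ) + 1) = 1 from rfl, one_smul, show ∑ j, x j * invOp (d j) b - b =
        ∑ j, x j * (invOp (d j) b - algebraMap k A (d j b)) - (b - ∑ j, d j b • x j) by
          simp only [mul_sub, Finset.sum_sub_distrib, Algebra.smul_def, mul_comm (x _) (algebraMap _ _ _)]; ring]
      refine sub_mem (sum_mem fun j _ => ?_) (hcoord b hb)
      rw [zero_add, pow_two]
      refine Ideal.mul_mem_mul (hx j) ?_
      simp [RingHom.mem_ker, counit_invOp]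
    | succ n ih =>
      intro b hb
      rw [pow_succ] at hb
      refine Submodule.mul_induction_on hb (fun p hp c hc => ?_) (fun p q hp hq => ?_)
      ·
        have e : ∑ j, x j * invOp (d j) (p * c) - (n + 1 + 1 : ℕ) • (p * c) =
            (∑ j, x j * invOp (d j) p - (n + 1 : ℕ) • p) * c +
              p * (∑ j, x j * invOp (d j) c - c) := by
          rw [Finset.sum_congr rfl (fun j _ => show x j * invOp (d j) (p * c) =
            x j * invOp (d j) p * c + p * (x j * invOp (d j) c) by rw [invOp_mul _ (hd j)]; ring),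
            Finset.sum_add_distrib, ← Finset.sum_mul, ← Finset.mul_sum]
          simp only [nsmul_eq_mul]
          push_cast
          ring
        rw [e]
        refine add_mem ?_ ?_
        · rw [pow_succ]; exact Ideal.mul_mem_mul (ih p hp) hc
        · rw [show n + 1 + 2 = (n + 1) + 2 from rfl, pow_add]
          refine Ideal.mul_mem_mul hp ?_
          have hc' : c ∈ aug := hc
          rw [show ∑ j, x j * invOp (d j) c - c =
            ∑ j, x j * (invOp (d j) c - algebraMap k A (d j c)) - (c - ∑ j, d j c • x j) by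
              simp only [mul_sub, Finset.sum_sub_distrib, Algebra.smul_def, mul_comm (x _) (algebraMap _ _ _)]; ring]
          refine sub_mem (sum_mem fun j _ => ?_) (hcoord c hc')
          rw [pow_two]
          refine Ideal.mul_mem_mul (hx j) ?_
          simp [RingHom.mem_ker, counit_invOp]
      · have e : ∑ j, x j * invOp (d j) (p + q) - (n + 1 + 1 : ℕ) • (p + q) =
            (∑ j, x j * invOp (d j) p - (n + 1 + 1 : ℕ) • p) + (∑ j, x j * invOp (d j) q - (n + 1 + 1 : ℕ) • q) := by
          simp only [map_add, mul_add, Finset.sum_add_distrib, smul_add]; abel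
        rw [e]
        exact add_mem hp hq
  intro n
  induction n with
  | zero => intro a _; rw [pow_zero, Ideal.one_eq_top]; trivial
  | succ n ih =>
    intro a ha
    rcases Nat.eq_zero_or_pos n with rfl | hn
    · rw [zero_add, pow_one]; exact h0 a ha
    obtain ⟨m, rfl⟩ := Nat.exists_eq_add_of_le hn
    rw [Nat.succ_eq_add_one, add_comm 1 m] at *
    have h1 : ∑ j, x j * invOp (d j) a ∈ aug ^ (m + 2) := sum_mem fun j _ => by
      rw [pow_succ' _ (m + 1)]
      exact Ideal.mul_mem_mul (hx j) (ih _ (hS _ (hd j) a ha))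
    have h2 := sub_mem h1 (euler m a (ih a ha))
    rw [sub_sub_cancel, nsmul_eq_mul] at h2
    have h3 := (aug ^ (m + 2)).mul_mem_left (algebraMap k A ((m + 1 : ℕ) : k)⁻¹) h2
    rwa [← mul_assoc, ← map_natCast (algebraMap k A), ← map_mul,
      inv_mul_cancel₀ (Nat.cast_ne_zero.2 (Nat.succ_ne_zero m)), map_one, one_mul] at h3

end Euler

section main

variable {k : Type u} [Field k] [IsAlgClosed k] [CharZero k] {A : Type u} [CommRing A] [HopfAlgebra k A]
  [Algebra.FiniteType k A] (hU : HopfRep.IsUnipotent k A)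
  {R : Type u} [AddCommGroup R] [Module k R] [HopfRep.Comod k A R]

include hU in
/-- A subspace stable under all invariant derivations is a subcomodule. -/
theorem isSubcomod_of_lie_stable (V : Submodule k R)
    (hV : ∀ d : A →ₗ[k] k, IsEpsDer d → ∀ v ∈ V, dact k A R (WithConv.toConv d) v ∈ V) :
    HopfRep.IsSubcomod (k := k) (A := A) V := by
  classical
  haveI : IsReduced A := Groth.Agent.HopfCartier.isReduced (k := k)
  haveI : IsNoetherianRing A := Algebra.FiniteType.isNoetherianRing k A
  have hnilact := (Groth.Agent.S5423.result k A).1 hU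
  let ρ : WithConv (A →ₐ[k] k) →* Module.End k R :=
    { toFun := fun g => dact k A R (WithConv.toConv g.ofConv.toLinearMap)
      map_one' := by
        rw [show WithConv.toConv (AlgHom.toLinearMap (1 : WithConv (A →ₐ[k] k)).ofConv) = 1 from ?_, map_one]
        ext a; simp [LinearMap.convOne_def, AlgHom.convOne_def, Algebra.algebraMap_eq_smul_one]
      map_mul' := fun g g' => by rw [← map_mul]; congr 1 }
  have hρ : ∀ (g : WithConv (A →ₐ[k] k)) (φ : R →ₗ[k] k) (v : R), φ (ρ g v) = g.ofConv (cL φ (HopfRep.Comod.coact (k := k) (A := A) v)) :=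
    fun g φ v => (apply_cL_coact _ φ v).symm
  refine isSubcomod_iff.mpr fun f v hv => ?_
  suffices hall : ∀ g, ρ g v ∈ V by
    by_contra hc
    obtain ⟨φ, hφ1, hφ2⟩ := Submodule.exists_dual_map_eq_bot_of_notMem hc inferInstance
    rw [← apply_cL_coact] at hφ1
    obtain ⟨G, hG⟩ := Groth.Agent.HopfPoint.exists_point_ne_zero (k := k)
      (a := cL φ (HopfRep.Comod.coact (k := k) (A := A) v))
      fun hn => hφ1 (by rw [hn.eq_zero, map_zero])
    apply hG
    rw [show G _ = φ (ρ (WithConv.toConv G) v) from (hρ (WithConv.toConv G) φ v).symm]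
    exact (Submodule.mem_bot k).1 (hφ2 ▸ Submodule.mem_map_of_mem (hall _))
  obtain ⟨S, hvS, hSfin⟩ := exists_finite_subcomod (K := k) (C := A) v
  let W := ofDSub S
  let V' := V ⊓ W
  haveI : Module.Finite k V' := Submodule.finiteDimensional_of_le (inf_le_right : V' ≤ W)
  have hWst : ∀ (f : CDual k A) w, w ∈ W → dact k A R f w ∈ W := fun f w hw => S.smul_mem f hw
  let Cset : Set A := {a | ∃ w ∈ V', ∃ φ : R →ₗ[k] k, (∀ u ∈ V', φ u = 0) ∧
    a = cL φ (HopfRep.Comod.coact (k := k) (A := A) w)}
  let T := Submodule.span k Cset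
  have hC0 : ∀ a ∈ Cset, counit (R := k) a = 0 := by
    rintro a ⟨w, hw, φ, hφ, rfl⟩
    refine (apply_cL_coact (1 : CDual k A) φ w).trans ?_
    rw [map_one]
    exact hφ w hw
  have hCst : ∀ d : A →ₗ[k] k, IsEpsDer d → ∀ a ∈ Cset, invOp d a ∈ Cset := by
    rintro d hd a ⟨w, hw, φ, hφ, rfl⟩
    refine ⟨dact k A R (WithConv.toConv d) w, ⟨hV d hd w hw.1, hWst _ w hw.2⟩, φ, hφ, ?_⟩
    exact coeff_smul (WithConv.toConv d) φ w
  have hTfg : T.FG := by
    let e := Module.finBasis k V'
    choose F hF using fun i => TensorProduct.exists_finset (HopfRep.Comod.coact (k := k) (A := A) ((e i : V') : R))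
    let G : Finset A := Finset.univ.biUnion fun i => (F i).image Prod.snd
    haveI : FiniteDimensional k (Submodule.span k (G : Set A)) := FiniteDimensional.span_finset k G
    haveI : FiniteDimensional k T := by
      refine Submodule.finiteDimensional_of_le (S₂ := Submodule.span k (G : Set A)) (Submodule.span_le.2 ?_)
      rintro a ⟨w, hw, φ, -, rfl⟩
      have : (⟨w, hw⟩ : V') ∈ Submodule.span k (Set.range e) := e.mem_span _
      rw [Submodule.mem_span_range_iff_exists_fun] at this
      obtain ⟨c, hc⟩ := this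
      rw [show w = ∑ i, c i • ((e i : V') : R) by
        have := congrArg Subtype.val hc; simpa using this.symm]
      simp only [map_sum, map_smul]
      refine sum_mem fun i _ => Submodule.smul_mem _ _ ?_
      rw [hF i, map_sum]
      refine sum_mem fun p hp => ?_
      rw [cL_tmul]
      exact Submodule.smul_mem _ _ (Submodule.subset_span
        (Finset.mem_biUnion.2 ⟨i, Finset.mem_univ i, Finset.mem_image_of_mem _ hp⟩))
    exact (Submodule.fg_iff_finiteDimensional _).2 inferInstance
  obtain ⟨G, hG⟩ := hTfg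
  have hann : ∀ a ∈ T, ∃ s : A, counit (R := k) s = 1 ∧ s * a = 0 := by
    intro a ha
    have hpow : ∀ n, a ∈ RingHom.ker (Bialgebra.counitAlgHom k A) ^ n := fun n => by
      induction ha using Submodule.span_induction with
      | mem y hy => exact mem_pow_of_stable Cset hC0 hCst n y hy
      | zero => exact zero_mem _
      | add p q _ _ hp hq => exact add_mem hp hq
      | smul c p _ hp => exact Submodule.smul_of_tower_mem _ c hp
    obtain ⟨⟨r, hr⟩, hra⟩ := (Ideal.mem_iInf_smul_pow_eq_bot_iff (RingHom.ker (Bialgebra.counitAlgHom k A)) a).1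
      ((Submodule.mem_iInf _).2 fun n => by rw [smul_eq_mul, ← Ideal.one_eq_top, mul_one]; exact hpow n)
    exact ⟨1 - r, by rw [map_sub, Bialgebra.counit_one, show counit (R := k) r = 0 from hr, sub_zero],
      by rw [sub_mul, one_mul, ← smul_eq_mul, hra, sub_self]⟩
  choose! sf hs1 hs0 using hann
  let s : A := ∏ a ∈ G, sf a
  have hεs : counit (R := k) s = 1 := by
    show Bialgebra.counitAlgHom k A s = 1
    rw [map_prod]
    exact Finset.prod_eq_one fun a ha => hs1 a (hG ▸ Submodule.subset_span ha)
  let H : Set (WithConv (A →ₐ[k] k)) := {g | ∀ w ∈ V', ρ g w ∈ V'}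
  have hUH : ∀ g : WithConv (A →ₐ[k] k), g.ofConv s ≠ 0 → g ∈ H := by
    intro g hg w hw
    by_contra hc
    obtain ⟨φ, hφ1, hφ2⟩ := Submodule.exists_dual_map_eq_bot_of_notMem hc inferInstance
    apply hφ1
    rw [hρ]
    have hker : T ≤ LinearMap.ker g.ofConv.toLinearMap := by
      rw [← hG, Submodule.span_le]
      intro a ha
      have h1 : s * a = 0 := by
        show (∏ b ∈ G, sf b) * a = 0
        rw [← Finset.mul_prod_erase G sf ha, mul_right_comm, hs0 a (hG ▸ Submodule.subset_span ha), zero_mul]
      have h2 := congrArg g.ofConv h1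
      rw [map_mul, map_zero, mul_eq_zero] at h2
      exact h2.resolve_left hg
    exact hker (Submodule.subset_span ⟨w, hw, φ,
      fun u hu => (Submodule.mem_bot k).1 (hφ2 ▸ Submodule.mem_map_of_mem hu), rfl⟩)
  -- finitely many translates cover all points
  let tr : WithConv (A →ₐ[k] k) → A := fun g => cR g.ofConv.toLinearMap (comul (R := k) s)
  have htr : ∀ g h : WithConv (A →ₐ[k] k), h.ofConv (tr g) = (h * g).ofConv s := by
    intro g h
    rw [AlgHom.convMul_apply]
    show h.ofConv (cR g.ofConv.toLinearMap (comul (R := k) s)) = _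
    generalize comul (R := k) s = t
    induction t using TensorProduct.induction_on with
    | zero => simp
    | tmul p q => simp [mul_comm]
    | add p q hp hq => simp only [map_add, hp, hq]
  have htop : Ideal.span (Set.range tr) = ⊤ := by
    by_contra hne
    obtain ⟨M, hM, hle⟩ := Ideal.exists_le_maximal _ hne
    letI := Ideal.Quotient.field M
    haveI : Algebra.FiniteType k (A ⧸ M) :=
      Algebra.FiniteType.of_surjective (Ideal.Quotient.mkₐ k M) Ideal.Quotient.mk_surjective
    haveI : Module.Finite k (A ⧸ M) := finite_of_finite_type_of_isJacobsonRing k (A ⧸ M)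
    haveI : Algebra.IsIntegral k (A ⧸ M) := Algebra.IsIntegral.of_finite k _
    let G : A →ₐ[k] k :=
      ((AlgEquiv.ofBijective (Algebra.ofId k (A ⧸ M))
        IsAlgClosed.algebraMap_bijective_of_isIntegral).symm.toAlgHom).comp
          (Ideal.Quotient.mkₐ k M)
    have h0 : G (tr (WithConv.toConv G)⁻¹) = 0 := by
      simp only [G, AlgHom.comp_apply, Ideal.Quotient.mkₐ_eq_mk,
        Ideal.Quotient.eq_zero_iff_mem.2 (hle (Ideal.subset_span ⟨_, rfl⟩)), map_zero]
    rw [show G (tr (WithConv.toConv G)⁻¹) = (WithConv.toConv G * (WithConv.toConv G)⁻¹).ofConv s from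
      htr _ (WithConv.toConv G), mul_inv_cancel, AlgHom.convOne_apply] at h0
    rw [hεs] at h0
    simp at h0
  obtain ⟨F, hFsub, hFtop⟩ := Submodule.mem_span_finite_of_mem_span
    ((Ideal.eq_top_iff_one _).1 htop : (1 : A) ∈ Submodule.span A (Set.range tr))
  choose! pre hpre using fun a (ha : a ∈ F) => hFsub ha
  have hcov : ∀ g : WithConv (A →ₐ[k] k), ∃ a : F, g * pre a ∈ H := by
    intro g
    by_contra hno
    push Not at hno
    have hle : Submodule.span A (F : Set A) ≤ RingHom.ker g.ofConv := Submodule.span_le.2 fun a ha => by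
      show g.ofConv a = 0
      by_contra hga
      refine hno ⟨a, ha⟩ (hUH _ ?_)
      rwa [← htr, hpre a ha]
    have h1 : g.ofConv (1 : A) = 0 := hle hFtop
    rw [map_one] at h1
    exact one_ne_zero h1
  -- the stabiliser is a group
  have hHinv : ∀ g ∈ H, ∀ w ∈ V', ρ g⁻¹ w ∈ V' := by
    intro g hg w hw
    let L : V' →ₗ[k] V' := (ρ g).restrict hg
    have hLinj : Function.Injective L := fun a b hab => by
      have h := congrArg (fun z : V' => ρ g⁻¹ (z : R)) hab
      change ρ g⁻¹ (ρ g a) = ρ g⁻¹ (ρ g b) at h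
      rw [← Module.End.mul_apply, ← Module.End.mul_apply, ← map_mul, inv_mul_cancel, map_one] at h
      exact Subtype.ext h
    obtain ⟨⟨u, hu⟩, hLu⟩ := LinearMap.injective_iff_surjective.1 hLinj ⟨w, hw⟩
    have hgu : ρ g u = w := congrArg Subtype.val hLu
    rw [← hgu, ← Module.End.mul_apply, ← map_mul, inv_mul_cancel, map_one]
    exact hu
  intro g
  -- some positive power of g stabilises
  choose idx hidx using fun i : ℕ => hcov (g ^ i)
  obtain ⟨i, j, hij, heq⟩ := Finite.exists_ne_map_eq_of_infinite idx
  obtain ⟨n, hn0, hn⟩ : ∃ n, 0 < n ∧ g ^ n ∈ H := by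
    wlog hlt : i < j generalizing i j
    · exact this j i hij.symm heq.symm (lt_of_le_of_ne (not_lt.1 hlt) hij.symm)
    refine ⟨j - i, Nat.sub_pos_of_lt hlt, fun w hw => ?_⟩
    have hj := hidx j
    rw [← heq] at hj
    have e : g ^ (j - i) = (g ^ j * pre (idx i : A)) * (g ^ i * pre (idx i : A))⁻¹ := by
      rw [mul_inv_rev, mul_assoc, mul_inv_cancel_left, pow_sub _ hlt.le]
    rw [e, map_mul, Module.End.mul_apply]
    exact hj _ (hHinv _ (hidx i) w hw)
  have hpow : ∀ t : ℕ, ∀ w ∈ V', ρ (g ^ (n * t)) w ∈ V' := by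
    intro t
    induction t with
    | zero => intro w hw; rw [mul_zero, pow_zero, map_one]; exact hw
    | succ t iht =>
      intro w hw
      rw [Nat.mul_succ, pow_add, map_mul, Module.End.mul_apply]
      exact iht _ (hn w hw)
  -- polynomiality
  letI cW := ComodSub.Comod.restr (inferInstance : HopfRep.Comod k A R) W (isSubcomod_ofDSub S)
  obtain ⟨K, hK⟩ := hnilact g.ofConv W hSfin
  have hres : ∀ w : W, ((HopfRep.Comod.act k A W g.ofConv w : W) : R) = ρ g w := by
    intro w
    have h := ComodSub.restr_coact_coe (inferInstance : HopfRep.Comod k A R) W (isSubcomod_ofDSub S) w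
    show _ = cR g.ofConv.toLinearMap (HopfRep.Comod.coact (k := k) (A := A) (w : R))
    rw [← h]
    exact (cR_rTensor W.subtype g.ofConv.toLinearMap _).symm
  have hNK : ((ρ g - 1) ^ K) v = 0 := by
    have hN : ∀ (m : ℕ) (w : W),
        ((((HopfRep.Comod.act k A W g.ofConv - LinearMap.id : Module.End k W) ^ m) w : W) : R) = ((ρ g - 1) ^ m) (w : R) := by
      intro m
      induction m with
      | zero => intro w; rfl
      | succ m ihm =>
        intro w
        rw [pow_succ, pow_succ, Module.End.mul_apply, Module.End.mul_apply, ihm]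
        congr 1
        simp only [LinearMap.sub_apply, LinearMap.id_apply, Submodule.coe_sub, hres, Module.End.one_apply]
    rw [← hN K ⟨v, hvS⟩, hK]
    rfl
  suffices hV' : ρ g v ∈ V' from hV'.1
  by_contra hc
  obtain ⟨φ, hφ1, hφ2⟩ := Submodule.exists_dual_map_eq_bot_of_notMem hc inferInstance
  let P : Polynomial k := ∑ i ∈ Finset.range K,
    Polynomial.C (φ (((ρ g - 1) ^ i) v) / (i.factorial : k)) * descPochhammer k i
  have hP : ∀ m : ℕ, P.eval (m : k) = φ (ρ (g ^ m) v) := by
    intro m
    have e : ρ g ^ m = ((ρ g - 1) + 1) ^ m := by rw [sub_add_cancel]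
    rw [map_pow, e, (Commute.one_right _).add_pow, LinearMap.sum_apply, map_sum, Polynomial.eval_finset_sum]
    have hr : ∀ i, φ ((((ρ g - 1) ^ i * 1 ^ (m - i) * (m.choose i : Module.End k R))) v) =
        (m.choose i : k) * φ (((ρ g - 1) ^ i) v) := by
      intro i
      rw [one_pow, mul_one, ← nsmul_one, ← Nat.cast_smul_eq_nsmul k, mul_smul_comm, mul_one, LinearMap.smul_apply,
        map_smul, smul_eq_mul]
    simp only [hr, Polynomial.eval_mul, Polynomial.eval_C]
    have hl : ∀ i ∈ Finset.range K, φ (((ρ g - 1) ^ i) v) / (i.factorial : k) * (descPochhammer k i).eval (m : k) =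
        (m.choose i : k) * φ (((ρ g - 1) ^ i) v) := by
      intro i _
      rw [Nat.cast_choose_eq_descPochhammer_div]
      ring
    rw [Finset.sum_congr rfl hl]
    have hz : ∀ i, K ≤ i → ((ρ g - 1) ^ i) v = 0 := fun i hi => by
      obtain ⟨d, rfl⟩ := Nat.exists_eq_add_of_le hi
      rw [add_comm, pow_add, Module.End.mul_apply, hNK, map_zero]
    rcases le_total K (m + 1) with h | h
    · refine Finset.sum_subset (Finset.range_mono h) fun i _ hi => ?_
      rw [hz i (by simpa using hi), map_zero, mul_zero]
    · refine (Finset.sum_subset (Finset.range_mono h) fun i _ hi => ?_).symm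
      rw [Nat.choose_eq_zero_of_lt (by simpa using hi), Nat.cast_zero, zero_mul]
  have hP0 : P = 0 := Polynomial.eq_zero_of_infinite_isRoot P (Set.Infinite.mono
    (s := Set.range fun t : ℕ => ((n * t : ℕ) : k)) (by
      rintro _ ⟨t, rfl⟩
      show P.eval _ = 0
      rw [hP]
      exact (Submodule.mem_bot k).1 (hφ2 ▸ Submodule.mem_map_of_mem (hpow t v ⟨hv, hvS⟩)))
    (Set.infinite_range_of_injective fun a b hab =>
      Nat.eq_of_mul_eq_mul_left hn0 (Nat.cast_injective hab)))
  apply hφ1
  rw [← pow_one g, ← hP, hP0, Polynomial.eval_zero]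

end main

end Groth.Agent.UnipFilt
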